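import Cfsg.Agent.H583.HT.Rho
import Cfsg.Agent.LieRecognition.FieldSemilinear

/-!
# Elements of order at least three in the case `ETwo` (S3577 P4b; helper583)
-/

set_option autoImplicit false
set_option linter.unusedSectionVars false

open scoped commutatorElement
open Finset

namespace Cfsg.Agent.H583.HT

open Cfsg.Agent.H828.HT Cfsg.Agent.H662.HT

universe u

variable {p : ℕ} [Fact p.Prime] {V : Type u} [AddCommGroup V] [Module (ZMod p) V] [Finite V]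

section etwo

variable {G A F : Subgroup (V ≃ₗ[ZMod p] V)} {K : Type u} [Field K] [Module K V] {χ : A →* Kˣ} {σ : G →* (K ≃+* K)}

/-- an element of odd order of `F` is in `A` -/
theorem mem_A_of_odd (E : ETwo G A F) {y : V ≃ₗ[ZMod p] V} (hy : y ∈ F) {r : ℕ} (hr : Odd r) (h1 : y ^ r = 1) :
    y ∈ A := by
  obtain ⟨k, hk⟩ := hr
  have h2 : y = (y * y) ^ (k + 1) := by
    rw [← pow_two, ← pow_mul, show 2 * (k + 1) = r + 1 by omega, pow_succ, h1, one_mul]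
  rw [h2]
  exact pow_mem (E.sq y hy) _

theorem rho_ne_one {ρ : G →* Equiv.Perm (Fin 3)} {n : Fin 3 → (V ≃ₗ[ZMod p] V)} (R : Rho G A F ρ n)
    (E : ETwo G A F) (hK : KS G A K χ σ) {y : G} {r : ℕ} (hr : r.Prime) (h2 : r ≠ 2) (hy : orderOf y = r)
    (hfix : ∃ v : V, v ≠ 0 ∧ (y : V ≃ₗ[ZMod p] V) v = v) (hσ : σ y = 1) : ρ y ≠ 1 := by
  intro h
  have h1 := R.mem_of_eq E hK h hσ
  have h3 : (y : V ≃ₗ[ZMod p] V) ^ r = 1 := by
    have : y ^ r = 1 := by rw [← hy]; exact pow_orderOf_eq_one y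
    exact congrArg Subtype.val this
  have h4 := mem_A_of_odd E h1 (hr.odd_of_ne_two h2) h3
  have h5 : (y : V ≃ₗ[ZMod p] V) ≠ 1 := by
    intro h6
    have h7 : y = 1 := Subtype.ext h6
    rw [h7, orderOf_one] at hy
    exact hr.one_lt.ne hy
  obtain ⟨v, hv, hv'⟩ := hfix
  exact hv (E.semi _ h4 h5 v hv')

/-- P4b -/
theorem no_big_lin [Nontrivial V] (E : ETwo G A F) (hK : KS G A K χ σ) {r : ℕ} (hr : r.Prime) (h5 : 5 ≤ r)
    {y : G} (hy : orderOf y = r) (hfix : ∃ v : V, v ≠ 0 ∧ (y : V ≃ₗ[ZMod p] V) v = v) : σ y ≠ 1 := by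
  intro hσ
  obtain ⟨ρ, n, R⟩ := exists_rho E
  apply rho_ne_one R E hK hr (by omega) hy hfix hσ
  have h1 : (ρ y) ^ r = 1 := by rw [← map_pow, ← hy, pow_orderOf_eq_one, map_one]
  have h2 : (ρ y) ^ 6 = 1 := by
    have : (ρ y) ^ Nat.card (Equiv.Perm (Fin 3)) = 1 := pow_card_eq_one'
    rwa [Nat.card_perm, Nat.card_fin] at this
  have h3 : orderOf (ρ y) ∣ Nat.gcd r 6 := Nat.dvd_gcd (orderOf_dvd_of_pow_eq_one h1) (orderOf_dvd_of_pow_eq_one h2)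
  have h4 : Nat.Coprime r 6 := by
    rw [Nat.Prime.coprime_iff_not_dvd hr]
    intro h
    have h6 : r ∣ 2 * 3 := h
    rcases (hr.dvd_mul).1 h6 with h7 | h7
    · exact absurd (Nat.le_of_dvd (by norm_num) h7) (by omega)
    · exact absurd (Nat.le_of_dvd (by norm_num) h7) (by omega)
  rw [h4] at h3
  exact orderOf_eq_one_iff.1 (Nat.dvd_one.1 h3)

/-- P4b -/
theorem count_three_lin [Nontrivial V] (E : ETwo G A F) (hK : KS G A K χ σ) (_hp : 5 ≤ p) (_hcop : ¬ p ∣ Nat.card G) :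
    Nat.card {y : G // orderOf y = 3 ∧ (∃ v : V, v ≠ 0 ∧ (y : V ≃ₗ[ZMod p] V) v = v) ∧ σ y = 1} ≤ 24 := by
  classical
  have := finite_gl (p := p) (V := V)
  obtain ⟨ρ, n, R⟩ := exists_rho E
  have hcube : ∀ y : G, orderOf y = 3 → y ^ 3 = 1 := fun y hy => by rw [← hy]; exact pow_orderOf_eq_one y
  have ht : (Finset.univ.filter fun t : Equiv.Perm (Fin 3) => t ^ 3 = 1 ∧ t ≠ 1).card = 2 := by decide
  have h1 := card_le_mul_of
    (S := fun y : G => orderOf y = 3 ∧ (∃ v : V, v ≠ 0 ∧ (y : V ≃ₗ[ZMod p] V) v = v) ∧ σ y = 1) (fun y => ρ y)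
    (Finset.univ.filter fun t : Equiv.Perm (Fin 3) => t ^ 3 = 1 ∧ t ≠ 1) (fun y hy => by
      rw [Finset.mem_filter]
      refine ⟨Finset.mem_univ _, ?_, rho_ne_one R E hK Nat.prime_three (by norm_num) hy.1 hy.2.1 hy.2.2⟩
      rw [← map_pow, hcube y hy.1, map_one]) 12 (fun t _ => by
    by_cases hne : ∃ y₀ : G, (orderOf y₀ = 3 ∧ (∃ v : V, v ≠ 0 ∧ (y₀ : V ≃ₗ[ZMod p] V) v = v) ∧ σ y₀ = 1) ∧ ρ y₀ = t
    · obtain ⟨y₀, h3, h4⟩ := hne
      refine R.card_le_four E (S := fun y : G => (orderOf y = 3 ∧ (∃ v : V, v ≠ 0 ∧ (y : V ≃ₗ[ZMod p] V) v = v) ∧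
        σ y = 1) ∧ ρ y = t) y₀ ?_ 3 ?_
      · intro y hy
        exact R.inv_mul_mem E hK (h4.trans hy.2.symm) (h3.2.2.trans hy.1.2.2.symm)
      · intro y₁ hy₁
        refine le_trans (Nat.card_le_card_of_injective (fun y => (⟨y.1, hcube y.1 y.2.1.1.1, y.2.2⟩ :
          {y : G // y ^ 3 = 1 ∧ (y₁ : V ≃ₗ[ZMod p] V)⁻¹ * (y : V ≃ₗ[ZMod p] V) ∈ A})) ?_)
          (coset_lin E hK (by norm_num) (hcube y₁ hy₁.1.1) hy₁.1.2.2)
        intro a b h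
        have h5 : a.1 = b.1 := congrArg (fun z : {y : G // y ^ 3 = 1 ∧
          (y₁ : V ≃ₗ[ZMod p] V)⁻¹ * (y : V ≃ₗ[ZMod p] V) ∈ A} => z.1) h
        exact Subtype.ext h5
    · have : IsEmpty {y : G // (orderOf y = 3 ∧ (∃ v : V, v ≠ 0 ∧ (y : V ≃ₗ[ZMod p] V) v = v) ∧ σ y = 1) ∧
        ρ y = t} := ⟨fun y => hne ⟨y.1, y.2⟩⟩
      rw [Nat.card_of_isEmpty]
      exact Nat.zero_le _)
  rw [ht] at h1
  exact h1

/-- the fixed spaces of `y` and `n y n⁻¹` are disjoint -/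
theorem card_sq_le {y n : V ≃ₗ[ZMod p] V} (h : ∀ w ∈ fx y, n w ∈ fx y → w = 0) :
    Nat.card (fx y) ^ 2 ≤ Nat.card V := by
  rw [pow_two, ← Nat.card_prod]
  refine Nat.card_le_card_of_injective (fun z : fx y × fx y => (z.1 : V) + n (z.2 : V)) ?_
  rintro ⟨a, b⟩ ⟨a', b'⟩ hab
  have h1 : (a : V) + n (b : V) = a' + n (b' : V) := hab
  have h2 : n ((b : V) - b') = (a' : V) - a := by
    rw [map_sub]
    have h3 : n (b : V) - n (b' : V) = ((a : V) + n (b : V)) - a - n (b' : V) := by abel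
    rw [h3, h1]
    abel
  have h3 : (b : V) - b' = 0 := by
    apply h _ (Submodule.sub_mem _ b.2 b'.2)
    rw [h2]
    exact Submodule.sub_mem _ a'.2 a.2
  have h4 : (b : V) = b' := sub_eq_zero.1 h3
  rw [h4] at h1
  exact Prod.ext (Subtype.ext (add_right_cancel h1)) (Subtype.ext h4)

theorem no_fix_of_perm : ∀ t : Equiv.Perm (Fin 3), t ^ 3 = 1 → t ≠ 1 → t 0 ≠ 0 := by decide

/-- P4b -/
theorem card_three [Nontrivial V] (E : ETwo G A F) (hK : KS G A K χ σ) (hp : 5 ≤ p) (_hcop : ¬ p ∣ Nat.card G)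
    {y : G} (hy : orderOf y = 3) (hfix : ∃ v : V, v ≠ 0 ∧ (y : V ≃ₗ[ZMod p] V) v = v) (hσ : σ y = 1) :
    Nat.card (fx (y : V ≃ₗ[ZMod p] V)) ^ 2 ≤ Nat.card V := by
  obtain ⟨ρ, n, R⟩ := exists_rho E
  have hy3 : y ^ 3 = 1 := by rw [← hy]; exact pow_orderOf_eq_one y
  have h1 := rho_ne_one R E hK Nat.prime_three (by norm_num) hy hfix hσ
  have h2 : (ρ y) ^ 3 = 1 := by rw [← map_pow, hy3, map_one]
  have h3 := no_fix_of_perm _ h2 h1
  obtain ⟨j, hj⟩ : ∃ j, ρ y 0 = j := ⟨_, rfl⟩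
  rw [hj] at h3
  have h4 := (R.act y 0 j).1 hj
  -- the anticommuting elements
  obtain ⟨m, hm⟩ : ∃ m, m = (y : V ≃ₗ[ZMod p] V) * n 0 * (y : V ≃ₗ[ZMod p] V)⁻¹ := ⟨_, rfl⟩
  rw [← hm] at h4
  have hmF : m ∈ F := by rw [hm]; exact E.nF _ y.2 _ (R.memF 0)
  have hmA : m ∉ A := by
    intro h
    apply R.notA 0
    have h5 := E.nA _ (inv_mem y.2) _ h
    have h6 : (y : V ≃ₗ[ZMod p] V)⁻¹ * m * (y : V ≃ₗ[ZMod p] V)⁻¹⁻¹ = n 0 := by rw [hm]; group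
    rwa [h6] at h5
  have h0m : (n 0)⁻¹ * m ∉ A := by
    intro h
    apply h3
    apply R.inj
    have h5 : (n j)⁻¹ * n 0 = ((n j)⁻¹ * m) * ((n 0)⁻¹ * m)⁻¹ := by group
    rw [h5]
    exact mul_mem h4 (inv_mem h)
  have hanti := anti E (R.memF 0) hmF (R.notA 0) hmA h0m
  have hsq : m * m = n 0 * n 0 := by
    have h5 := (hK.cen y).1 hσ _ (E.sq _ (R.memF 0))
    calc m * m = ((y : V ≃ₗ[ZMod p] V) * (n 0 * n 0)) * (y : V ≃ₗ[ZMod p] V)⁻¹ := by rw [hm]; group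
      _ = n 0 * n 0 := by rw [h5]; group
  -- `u = m n⁻¹`
  have hu : (m * (n 0)⁻¹) * (m * (n 0)⁻¹) = ng p V := by
    have h5 : (n 0)⁻¹ * m = ng p V * (m * (n 0)⁻¹) := by
      have h6 : (n 0)⁻¹ * (n 0 * m) * (n 0)⁻¹ = (n 0)⁻¹ * (ng p V * (m * n 0)) * (n 0)⁻¹ := by rw [hanti]
      have h7 : (n 0)⁻¹ * (n 0 * m) * (n 0)⁻¹ = m * (n 0)⁻¹ := by group
      have h8 : (n 0)⁻¹ * (ng p V * (m * n 0)) * (n 0)⁻¹ = ((n 0)⁻¹ * ng p V) * m := by group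
      rw [h7, h8, ← ng_comm, mul_assoc] at h6
      rw [h6, ← mul_assoc, ng_mul_ng, one_mul]
    calc (m * (n 0)⁻¹) * (m * (n 0)⁻¹) = m * ((n 0)⁻¹ * m) * (n 0)⁻¹ := by group
      _ = (m * ng p V) * (m * (n 0)⁻¹) * (n 0)⁻¹ := by rw [h5]; group
      _ = ng p V * (m * m) * (n 0 * n 0)⁻¹ := by rw [← ng_comm]; group
      _ = ng p V := by rw [hsq]; group
  apply card_sq_le (n := n 0)
  intro w hw hnw
  rw [mem_fx] at hw hnw
  have h5 : (m * (n 0)⁻¹) (n 0 w) = n 0 w := by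
    have h6 : (m * (n 0)⁻¹) (n 0 w) = m w := by
      rw [← LinearEquiv.mul_apply, inv_mul_cancel_right]
    have h7 : m w = (y : V ≃ₗ[ZMod p] V) (n 0 ((y : V ≃ₗ[ZMod p] V)⁻¹ w)) := by rw [hm]; rfl
    have h8 : (y : V ≃ₗ[ZMod p] V)⁻¹ w = w := by
      have h9 : (y : V ≃ₗ[ZMod p] V)⁻¹ ((y : V ≃ₗ[ZMod p] V) w) = w := by
        rw [← LinearEquiv.mul_apply, inv_mul_cancel]; rfl
      rwa [hw] at h9
    rw [h6, h7, h8, hnw]
  have h6 : n 0 w = -(n 0 w) := by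
    have h7 : ((m * (n 0)⁻¹) * (m * (n 0)⁻¹)) (n 0 w) = n 0 w := by
      rw [LinearEquiv.mul_apply, h5, h5]
    rw [hu, ng_apply] at h7
    exact h7.symm
  have h7 : n 0 w = 0 := by
    have h8 : (2 : ZMod p) • n 0 w = 0 := by
      rw [two_smul]
      nth_rewrite 1 [h6]
      exact neg_add_cancel _
    rcases smul_eq_zero.1 h8 with h9 | h9
    · exfalso
      have h10 : ((2 : ℕ) : ZMod p) = 0 := by exact_mod_cast h9
      rw [ZMod.natCast_eq_zero_iff] at h10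
      exact absurd (Nat.le_of_dvd (by norm_num) h10) (by omega)
    · exact h9
  exact (LinearEquiv.map_eq_zero_iff (n 0)).1 h7

/-! ### the semilinear elements -/

theorem finite_aut (hK : KS G A K χ σ) : Finite (K ≃+* K) := by
  have := hK.fin
  exact Finite.of_injective (fun f : K ≃+* K => (f : K → K)) DFunLike.coe_injective

theorem card_aut_le (hK : KS G A K χ σ) [Fintype (K ≃+* K)] [DecidableEq (K ≃+* K)] {r : ℕ} (hr : 0 < r) :
    (Finset.univ.filter fun t : K ≃+* K => t ^ r = 1 ∧ t ≠ 1).card ≤ r - 1 := by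
  have := hK.fin
  have hc : IsCyclic (K ≃+* K) := Cfsg.Agent.LieRecognition.FieldSemilinear.isCyclic_ringAut K
  have h1 := IsCyclic.card_pow_eq_one_le (α := K ≃+* K) hr
  have h2 : (Finset.univ.filter fun t : K ≃+* K => t ^ r = 1 ∧ t ≠ 1) =
      (Finset.univ.filter fun t : K ≃+* K => t ^ r = 1).erase 1 := by
    ext t
    simp only [Finset.mem_filter, Finset.mem_univ, true_and, Finset.mem_erase]
    exact and_comm
  rw [h2, Finset.card_erase_of_mem (by simp)]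
  omega

/-- a set inside a coset of `A` of elements of order `r` -/
theorem coset_semi' [Nontrivial V] (E : ETwo G A F) (hK : KS G A K χ σ) {r : ℕ} (hr : r.Prime) {q₀ : ℕ}
    (hq : Nat.card K = q₀ ^ r) {S : G → Prop} (hS : ∀ y, S y → y ^ r = 1 ∧ σ y ≠ 1) {y₁ : G} (hy₁ : S y₁) :
    Nat.card {y // S y ∧ (y₁ : V ≃ₗ[ZMod p] V)⁻¹ * (y : V ≃ₗ[ZMod p] V) ∈ A} ≤ (q₀ ^ r - 1) / (q₀ - 1) := by
  have := finite_gl (p := p) (V := V)
  obtain ⟨q, hq2, hqK, hle⟩ := coset_semi E hK hr (hS y₁ hy₁).1 (hS y₁ hy₁).2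
  have e : q = q₀ := by
    rw [hq] at hqK
    exact (Nat.pow_left_injective hr.ne_zero hqK).symm
  rw [e] at hle hq2
  rw [Nat.le_div_iff_mul_le (by omega), mul_comm]
  refine le_trans (Nat.mul_le_mul_left _ (Nat.card_le_card_of_injective (fun y =>
    (⟨y.1, (hS y.1 y.2.1).1, y.2.2⟩ : {y : G // y ^ r = 1 ∧
      (y₁ : V ≃ₗ[ZMod p] V)⁻¹ * (y : V ≃ₗ[ZMod p] V) ∈ A})) ?_)) hle
  intro a b h
  have h5 : a.1 = b.1 := congrArg (fun z : {y : G // y ^ r = 1 ∧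
    (y₁ : V ≃ₗ[ZMod p] V)⁻¹ * (y : V ≃ₗ[ZMod p] V) ∈ A} => z.1) h
  exact Subtype.ext h5

/-- elements of order `r` outside `C`, with prescribed action on `F / A` -/
theorem count_semi [Nontrivial V] (E : ETwo G A F) (hK : KS G A K χ σ) {ρ : G →* Equiv.Perm (Fin 3)}
    {n : Fin 3 → (V ≃ₗ[ZMod p] V)} (R : Rho G A F ρ n) {r : ℕ} (hr : r.Prime) {q₀ : ℕ}
    (hq : Nat.card K = q₀ ^ r) {S : G → Prop} (hS : ∀ y, S y → y ^ r = 1 ∧ σ y ≠ 1)
    (t : Finset (Equiv.Perm (Fin 3))) (ht : ∀ y, S y → ρ y ∈ t) :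
    Nat.card {y // S y} ≤ (q₀ ^ r - 1) / (q₀ - 1) * 4 * ((r - 1) * t.card) := by
  classical
  have := finite_gl (p := p) (V := V)
  have := finite_aut hK
  have := Fintype.ofFinite (K ≃+* K)
  have h0 := card_aut_le hK hr.pos
  have h1 := card_le_mul_of (S := S) (fun y => (σ y, ρ y))
    ((Finset.univ.filter fun t : K ≃+* K => t ^ r = 1 ∧ t ≠ 1) ×ˢ t) (fun y hy => by
      rw [Finset.mem_product, Finset.mem_filter]
      exact ⟨⟨Finset.mem_univ _, by rw [← map_pow, (hS y hy).1, map_one], (hS y hy).2⟩, ht y hy⟩)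
    ((q₀ ^ r - 1) / (q₀ - 1) * 4) (fun b _ => by
    by_cases hne : ∃ y₀ : G, S y₀ ∧ (σ y₀, ρ y₀) = b
    · obtain ⟨y₀, h3, h4⟩ := hne
      refine R.card_le_four E (S := fun y : G => S y ∧ (σ y, ρ y) = b) y₀ ?_ _ ?_
      · intro y hy
        have h5 := h4.trans hy.2.symm
        exact R.inv_mul_mem E hK (congrArg Prod.snd h5) (congrArg Prod.fst h5)
      · intro y₁ hy₁
        exact coset_semi' E hK hr hq (S := fun y : G => S y ∧ (σ y, ρ y) = b) (fun y hy => hS y hy.1) hy₁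
    · have : IsEmpty {y : G // S y ∧ (σ y, ρ y) = b} := ⟨fun y => hne ⟨y.1, y.2⟩⟩
      rw [Nat.card_of_isEmpty]
      exact Nat.zero_le _)
  refine h1.trans (Nat.mul_le_mul_left _ ?_)
  rw [Finset.card_product]
  exact Nat.mul_le_mul_right _ h0

/-- P4b -/
theorem count_big_semi [Nontrivial V] (E : ETwo G A F) (hK : KS G A K χ σ) (_hp : 5 ≤ p) (_hcop : ¬ p ∣ Nat.card G)
    {r : ℕ} (hr : r.Prime) (_h5 : 5 ≤ r) {q₀ : ℕ} (hq : Nat.card K = q₀ ^ r) :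
    (q₀ - 1) * Nat.card {y : G // orderOf y = r ∧ σ y ≠ 1} ≤ 24 * (r - 1) * (q₀ ^ r - 1) := by
  obtain ⟨ρ, n, R⟩ := exists_rho E
  have h1 := count_semi E hK R hr hq (S := fun y : G => orderOf y = r ∧ σ y ≠ 1)
    (fun y hy => ⟨by rw [← hy.1]; exact pow_orderOf_eq_one y, hy.2⟩) Finset.univ (fun y _ => Finset.mem_univ _)
  have h2 : (Finset.univ : Finset (Equiv.Perm (Fin 3))).card = 6 := by decide
  rw [h2] at h1
  have h3 : (q₀ - 1) * ((q₀ ^ r - 1) / (q₀ - 1)) ≤ q₀ ^ r - 1 := Nat.mul_div_le _ _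
  calc (q₀ - 1) * Nat.card {y : G // orderOf y = r ∧ σ y ≠ 1}
      ≤ (q₀ - 1) * ((q₀ ^ r - 1) / (q₀ - 1) * 4 * ((r - 1) * 6)) := Nat.mul_le_mul_left _ h1
    _ = 24 * (r - 1) * ((q₀ - 1) * ((q₀ ^ r - 1) / (q₀ - 1))) := by ring
    _ ≤ 24 * (r - 1) * (q₀ ^ r - 1) := Nat.mul_le_mul_left _ h3

/-- elements of order three with the same action on `A` and trivial action on `F / A` are in one coset of `A` -/
theorem mem_A_of_triv (E : ETwo G A F) (hK : KS G A K χ σ) {ρ : G →* Equiv.Perm (Fin 3)}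
    {n : Fin 3 → (V ≃ₗ[ZMod p] V)} (R : Rho G A F ρ n) {y y₁ : G} (hy : y ^ 3 = 1) (hy₁ : y₁ ^ 3 = 1)
    (h1 : ρ y = 1) (h2 : ρ y₁ = 1) (h3 : σ y₁ = σ y) : (y₁ : V ≃ₗ[ZMod p] V)⁻¹ * (y : V ≃ₗ[ZMod p] V) ∈ A := by
  have hN : (A.subgroupOf G).Normal := ⟨fun a ha g => E.nA g g.2 a ha⟩
  have hF := R.inv_mul_mem E hK (h2.trans h1.symm) h3
  have hmk : ∀ g : G, (QuotientGroup.mk g : G ⧸ A.subgroupOf G) = 1 ↔ (g : V ≃ₗ[ZMod p] V) ∈ A := fun g =>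
    QuotientGroup.eq_one_iff g
  obtain ⟨m, hm⟩ : ∃ m : G, m = y₁⁻¹ * y := ⟨_, rfl⟩
  have hmF : (m : V ≃ₗ[ZMod p] V) ∈ F := by rw [hm]; exact hF
  have e1 : y = y₁ * m := by rw [hm]; group
  have hcomm : Commute (QuotientGroup.mk y₁ : G ⧸ A.subgroupOf G) (QuotientGroup.mk m) := by
    have h4 := (R.triv y₁).1 h2 _ hmF
    have h5 : (QuotientGroup.mk (y₁ * m * y₁⁻¹ * m⁻¹) : G ⧸ A.subgroupOf G) = 1 := (hmk _).2 h4
    rw [QuotientGroup.mk_mul, QuotientGroup.mk_mul, QuotientGroup.mk_mul, QuotientGroup.mk_inv,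
      QuotientGroup.mk_inv] at h5
    exact mul_inv_eq_iff_eq_mul.1 (mul_inv_eq_one.1 h5)
  have h4 : (QuotientGroup.mk m : G ⧸ A.subgroupOf G) ^ 3 = 1 := by
    have h5 : (QuotientGroup.mk y₁ : G ⧸ A.subgroupOf G) ^ 3 * (QuotientGroup.mk m) ^ 3 = 1 := by
      rw [← hcomm.mul_pow, ← QuotientGroup.mk_mul, ← e1, ← QuotientGroup.mk_pow, hy]
      rfl
    rw [← QuotientGroup.mk_pow, hy₁] at h5
    rw [QuotientGroup.mk_one, one_mul] at h5
    exact h5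
  have h5 : (QuotientGroup.mk m : G ⧸ A.subgroupOf G) ^ 2 = 1 := by
    rw [← QuotientGroup.mk_pow, hmk, pow_two]
    exact E.sq _ hmF
  have h6 : (QuotientGroup.mk m : G ⧸ A.subgroupOf G) = 1 := by
    rw [pow_succ, h5, one_mul] at h4
    exact h4
  rw [hm] at h6
  exact (hmk _).1 h6

/-- P4b -/
theorem count_three_semi [Nontrivial V] (E : ETwo G A F) (hK : KS G A K χ σ) (_hp : 5 ≤ p) (_hcop : ¬ p ∣ Nat.card G)
    {q₀ : ℕ} (hq : Nat.card K = q₀ ^ 3) :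
    Nat.card {y : G // orderOf y = 3 ∧ σ y ≠ 1} ≤ 18 * (q₀ ^ 2 + q₀ + 1) := by
  classical
  have := finite_gl (p := p) (V := V)
  have := finite_aut hK
  have := Fintype.ofFinite (K ≃+* K)
  have := hK.fin
  obtain ⟨ρ, n, R⟩ := exists_rho E
  have hq2 : 2 ≤ q₀ := by
    by_contra hlt
    have h1 : 1 < Nat.card K := Finite.one_lt_card
    rw [hq] at h1
    interval_cases q₀ <;> simp at h1
  have hdiv : (q₀ ^ 3 - 1) / (q₀ - 1) = q₀ ^ 2 + q₀ + 1 := by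
    obtain ⟨k, rfl⟩ := Nat.exists_eq_add_of_le' (show 1 ≤ q₀ by omega)
    have h1 : (k + 1) ^ 3 - 1 = k * ((k + 1) ^ 2 + (k + 1) + 1) := by
      rw [show (k + 1) ^ 3 = k * ((k + 1) ^ 2 + (k + 1) + 1) + 1 by ring]
      rfl
    rw [h1, Nat.add_sub_cancel, Nat.mul_div_cancel_left _ (by omega)]
  have hcube : ∀ y : G, orderOf y = 3 → y ^ 3 = 1 := fun y hy => by rw [← hy]; exact pow_orderOf_eq_one y
  -- the part acting as a three-cycle
  have h1 := count_semi E hK R Nat.prime_three hq (S := fun y : G => (orderOf y = 3 ∧ σ y ≠ 1) ∧ ρ y ≠ 1)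
    (fun y hy => ⟨hcube y hy.1.1, hy.1.2⟩) (Finset.univ.filter fun t : Equiv.Perm (Fin 3) => t ^ 3 = 1 ∧ t ≠ 1)
    (fun y hy => by
      rw [Finset.mem_filter]
      exact ⟨Finset.mem_univ _, by rw [← map_pow, hcube y hy.1.1, map_one], hy.2⟩)
  have ht : (Finset.univ.filter fun t : Equiv.Perm (Fin 3) => t ^ 3 = 1 ∧ t ≠ 1).card = 2 := by decide
  rw [ht, hdiv] at h1
  -- the part acting trivially
  have h0 := card_aut_le hK (show 0 < 3 by norm_num)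
  have h2 := card_le_mul_of (S := fun y : G => (orderOf y = 3 ∧ σ y ≠ 1) ∧ ρ y = 1) (fun y => σ y)
    (Finset.univ.filter fun t : K ≃+* K => t ^ 3 = 1 ∧ t ≠ 1) (fun y hy => by
      rw [Finset.mem_filter]
      exact ⟨Finset.mem_univ _, by rw [← map_pow, hcube y hy.1.1, map_one], hy.1.2⟩)
    (q₀ ^ 2 + q₀ + 1) (fun b _ => by
    by_cases hne : ∃ y₁ : G, ((orderOf y₁ = 3 ∧ σ y₁ ≠ 1) ∧ ρ y₁ = 1) ∧ σ y₁ = b
    · obtain ⟨y₁, h3, h4⟩ := hne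
      have h5 := coset_semi' E hK Nat.prime_three hq (S := fun y : G => orderOf y = 3 ∧ σ y ≠ 1)
        (fun y hy => ⟨hcube y hy.1, hy.2⟩) h3.1
      rw [hdiv] at h5
      refine le_trans (Nat.card_le_card_of_injective (fun y : {y : G // ((orderOf y = 3 ∧ σ y ≠ 1) ∧ ρ y = 1) ∧
        σ y = b} => (⟨y.1, y.2.1.1, mem_A_of_triv E hK R (hcube _ y.2.1.1.1) (hcube _ h3.1.1) y.2.1.2 h3.2
          (h4.trans y.2.2.symm)⟩ : {y : G // (orderOf y = 3 ∧ σ y ≠ 1) ∧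
          (y₁ : V ≃ₗ[ZMod p] V)⁻¹ * (y : V ≃ₗ[ZMod p] V) ∈ A})) ?_) h5
      intro a b h
      have h6 : a.1 = b.1 := congrArg (fun z : {y : G // (orderOf y = 3 ∧ σ y ≠ 1) ∧
        (y₁ : V ≃ₗ[ZMod p] V)⁻¹ * (y : V ≃ₗ[ZMod p] V) ∈ A} => z.1) h
      exact Subtype.ext h6
    · have : IsEmpty {y : G // ((orderOf y = 3 ∧ σ y ≠ 1) ∧ ρ y = 1) ∧ σ y = b} := ⟨fun y => hne ⟨y.1, y.2⟩⟩
      rw [Nat.card_of_isEmpty]
      exact Nat.zero_le _)
  have h3 : Nat.card {y : G // (orderOf y = 3 ∧ σ y ≠ 1) ∧ ρ y = 1} ≤ (q₀ ^ 2 + q₀ + 1) * 2 :=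
    h2.trans (Nat.mul_le_mul_left _ h0)
  have h4 : Nat.card {y : G // orderOf y = 3 ∧ σ y ≠ 1} =
      Nat.card {y : G // (orderOf y = 3 ∧ σ y ≠ 1) ∧ ρ y = 1} +
      Nat.card {y : G // (orderOf y = 3 ∧ σ y ≠ 1) ∧ ρ y ≠ 1} := by
    have := Fintype.ofFinite G
    rw [Nat.card_eq_fintype_card, Nat.card_eq_fintype_card, Nat.card_eq_fintype_card, Fintype.card_subtype,
      Fintype.card_subtype, Fintype.card_subtype]
    have h6 := Finset.card_filter_add_card_filter_not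
      (s := Finset.univ.filter fun y : G => orderOf y = 3 ∧ σ y ≠ 1) (fun y => ρ y = 1)
    rw [Finset.filter_filter, Finset.filter_filter] at h6
    exact h6.symm
  rw [h4]
  calc _ ≤ (q₀ ^ 2 + q₀ + 1) * 2 + (q₀ ^ 2 + q₀ + 1) * 4 * ((3 - 1) * 2) := Nat.add_le_add h3 h1
    _ = 18 * (q₀ ^ 2 + q₀ + 1) := by ring

end etwo

end Cfsg.Agent.H583.HT
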