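import Cfsg.Agent.H662.HT.Frame

/-!
# E3 : the Sylow 2-subgroup of a group of symplectic type (S3540, S3577; helper583 for helper662)
-/

set_option autoImplicit false

open scoped commutatorElement

namespace Cfsg.Agent.H583.HT

open Cfsg.Agent.H662.HT

universe u v

section abs

variable {N : Type u} {V : Type v} [Group N] [AddCommGroup V] [DistribMulAction N V] {a : ℕ}

/-- a nontrivial commutator -/
theorem exists_comm (H : Sym 2 a N V) : ∃ x y : N, ⁅x, y⁆ ≠ 1 := by
  by_contra hcon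
  push Not at hcon
  have := H.fin
  have h1 : Subgroup.center N = ⊤ := by
    rw [eq_top_iff]
    intro x _
    rw [Subgroup.mem_center_iff]
    intro y
    exact commutatorElement_eq_one_iff_mul_comm.1 (hcon y x)
  have h2 := H.card
  have h3 : Nat.card (Subgroup.center N) = Nat.card N := by rw [h1, Subgroup.card_top]
  rw [h3] at h2
  have h4 : 0 < Nat.card N := Nat.card_pos
  have h5 : 2 ^ (2 * a) = 1 := by
    apply Nat.eq_of_mul_eq_mul_left h4
    omega
  have h6 := H.ha
  rcases pow_eq_one_iff.1 h5 with h7 | h7 <;> omega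

theorem sq_eq (H : Sym 2 a N V) (x y : N) : (x * y) ^ 2 = x ^ 2 * y ^ 2 * ⁅y, x⁆ := by
  have h1 := Subgroup.mem_center_iff.1 (H.comm y x)
  have h2 : ⁅y, x⁆ * (x * y) = y * x := by rw [commutatorElement_def]; group
  have h3 := H.comm y x
  calc (x * y) ^ 2 = x * (y * x) * y := by rw [pow_two]; group
    _ = x * (⁅y, x⁆ * (x * y)) * y := by rw [h2]
    _ = (x * ⁅y, x⁆) * (x * y * y) := by group
    _ = (⁅y, x⁆ * x) * (x * y * y) := by rw [h1 x]
    _ = ⁅y, x⁆ * (x ^ 2 * y ^ 2) := by rw [pow_two, pow_two]; group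
    _ = x ^ 2 * y ^ 2 * ⁅y, x⁆ := (h1 _).symm

theorem four_mul (H : Sym 2 a N V) {x y : N} (hx : x ^ 4 = 1) (hy : y ^ 4 = 1) : (x * y) ^ 4 = 1 := by
  have h1 := Subgroup.mem_center_iff.1 (H.comm y x)
  have h2 := Subgroup.mem_center_iff.1 (H.exp x)
  have h3 := Subgroup.mem_center_iff.1 (H.exp y)
  have h4 : (x * y) ^ 4 = ((x * y) ^ 2) ^ 2 := by rw [← pow_mul]
  have h5 : Commute (x ^ 2 * y ^ 2) ⁅y, x⁆ := h1 _
  have h6 : Commute (x ^ 2) (y ^ 2) := h3 _
  rw [h4, sq_eq H, h5.mul_pow, h6.mul_pow, ← pow_mul, ← pow_mul, hx, hy, H.comm_pow, one_mul, one_mul]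

/-- the elements of `2`-power order -/
def E0 (H : Sym 2 a N V) : Subgroup N where
  carrier := {x | x ^ 4 = 1}
  mul_mem' := fun hx hy => four_mul H hx hy
  one_mem' := one_pow 4
  inv_mem' := fun {x} hx => by
    change (x⁻¹) ^ 4 = 1
    rw [inv_pow, show x ^ 4 = 1 from hx, inv_one]

theorem mem_E0 (H : Sym 2 a N V) {x : N} : x ∈ E0 H ↔ x ^ 4 = 1 := Iff.rfl

theorem two_dvd (H : Sym 2 a N V) : 2 ∣ Nat.card (Subgroup.center N) := by
  obtain ⟨x, y, hxy⟩ := exists_comm H
  have h1 : orderOf (⟨⁅x, y⁆, H.comm x y⟩ : Subgroup.center N) = 2 := by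
    apply orderOf_eq_prime
    · exact Subtype.ext (H.comm_pow x y)
    · exact fun h => hxy (congrArg Subtype.val h)
  rw [← h1]
  exact orderOf_dvd_natCard _

/-- the elements of the centre of order dividing four -/
theorem center_four (H : Sym 2 a N V) (h4 : ¬ 4 ∣ Nat.card (Subgroup.center N)) :
    ∃ c : N, c ∈ Subgroup.center N ∧ c ≠ 1 ∧ c ^ 4 = 1 ∧ ∀ x ∈ Subgroup.center N, x ^ 4 = 1 → x = 1 ∨ x = c := by
  have := H.fin
  have := H.cyc
  obtain ⟨x, y, hxy⟩ := exists_comm H
  have hc2 : ⁅x, y⁆ ^ 2 = 1 := H.comm_pow x y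
  refine ⟨⁅x, y⁆, H.comm x y, hxy, ?_, ?_⟩
  · rw [show 4 = 2 * 2 by norm_num, pow_mul, hc2, one_pow]
  · intro w hw hw4
    -- `w ^ 2 = 1`
    have h1 : w ^ 2 = 1 := by
      have h2 : orderOf (⟨w, hw⟩ : Subgroup.center N) ∣ 4 := orderOf_dvd_of_pow_eq_one (Subtype.ext hw4)
      have h3 : orderOf (⟨w, hw⟩ : Subgroup.center N) ∣ Nat.card (Subgroup.center N) := orderOf_dvd_natCard _
      have h5 : orderOf (⟨w, hw⟩ : Subgroup.center N) ∣ 2 := by
        obtain ⟨k, hk, e⟩ := (Nat.dvd_prime_pow Nat.prime_two (m := 2)).1 (by norm_num; exact h2)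
        rw [e] at h3 ⊢
        have h6 : k ≠ 2 := by
          rintro rfl
          exact h4 (by simpa using h3)
        have h7 : k ≤ 1 := by omega
        simpa using pow_dvd_pow 2 h7
      have h6 := orderOf_dvd_iff_pow_eq_one.1 h5
      exact congrArg Subtype.val h6
    by_cases hw1 : w = 1
    · exact Or.inl hw1
    · right
      -- a cyclic group has at most one involution
      by_contra hne
      classical
      have := Fintype.ofFinite (Subgroup.center N)
      have h2 := IsCyclic.card_pow_eq_one_le (α := Subgroup.center N) (n := 2) (by norm_num)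
      have h3 : ({1, ⟨w, hw⟩, ⟨⁅x, y⁆, H.comm x y⟩} : Finset (Subgroup.center N)) ⊆
          Finset.univ.filter fun z : Subgroup.center N => z ^ 2 = 1 := by
        intro z hz
        rw [Finset.mem_filter]
        refine ⟨Finset.mem_univ _, ?_⟩
        simp only [Finset.mem_insert, Finset.mem_singleton] at hz
        rcases hz with rfl | rfl | rfl
        · exact one_pow 2
        · exact Subtype.ext h1
        · exact Subtype.ext hc2
      have h5 := Finset.card_le_card h3
      rw [Finset.card_insert_of_notMem, Finset.card_insert_of_notMem, Finset.card_singleton] at h5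
      · omega
      · rw [Finset.mem_singleton]
        exact fun h => hne (congrArg Subtype.val h)
      · simp only [Finset.mem_insert, Finset.mem_singleton, not_or]
        exact ⟨fun h => hw1 (congrArg Subtype.val h).symm, fun h => hxy (congrArg Subtype.val h).symm⟩

theorem sup_eq (H : Sym 2 a N V) (h4 : ¬ 4 ∣ Nat.card (Subgroup.center N)) : E0 H ⊔ Subgroup.center N = ⊤ := by
  have := H.fin
  obtain ⟨k, hk⟩ := two_dvd H
  have hodd : ¬ 2 ∣ k := by
    rintro ⟨j, rfl⟩
    exact h4 ⟨j, by rw [hk]; ring⟩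
  rw [eq_top_iff]
  intro x _
  -- `x = x ^ (k * k) * x ^ (1 - k * k)`
  have h1 : (x ^ (k * k)) ^ 4 = 1 := by
    have h2 : (⟨x ^ 2, H.exp x⟩ : Subgroup.center N) ^ Nat.card (Subgroup.center N) = 1 := pow_card_eq_one'
    have h3 : (x ^ 2) ^ (2 * k) = 1 := by rw [← hk]; exact congrArg Subtype.val h2
    calc (x ^ (k * k)) ^ 4 = ((x ^ 2) ^ (2 * k)) ^ k := by rw [← pow_mul, ← pow_mul, ← pow_mul]; congr 1; ring
      _ = 1 := by rw [h3, one_pow]
  obtain ⟨j, hj⟩ : ∃ j, k * k = 2 * j + 1 := by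
    have h2 : ¬ 2 ∣ k * k := fun h => hodd (by
      rcases (Nat.prime_two.dvd_mul).1 h with h | h <;> exact h)
    exact ⟨k * k / 2, by omega⟩
  have h2 : x ^ (2 * j) ∈ Subgroup.center N := by
    rw [pow_mul]
    exact Subgroup.pow_mem _ (H.exp x) j
  have h3 : x = x ^ (k * k) * (x ^ (2 * j))⁻¹ := by
    rw [hj, pow_succ, (Commute.refl x).pow_left (2 * j) |>.eq, mul_assoc, mul_inv_cancel, mul_one]
  rw [h3]
  exact Subgroup.mul_mem_sup h1 (Subgroup.inv_mem _ h2)

theorem card_E0 (H : Sym 2 a N V) (h4 : ¬ 4 ∣ Nat.card (Subgroup.center N)) : Nat.card (E0 H) = 2 * 2 ^ (2 * a) := by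
  have := H.fin
  obtain ⟨c, hc, hc1, hc4, huniq⟩ := center_four H h4
  have h1 : Nat.card ((Subgroup.center N ⊓ E0 H : Subgroup N)) = 2 := by
    rw [Nat.card_eq_two_iff]
    refine ⟨1, ⟨c, hc, hc4⟩, fun h => hc1 (congrArg Subtype.val h).symm, ?_⟩
    ext ⟨w, hw, hw'⟩
    simp only [Set.mem_insert_iff, Set.mem_singleton_iff, Set.mem_univ, iff_true]
    rcases huniq w hw hw' with h | h
    · exact Or.inl (Subtype.ext h)
    · exact Or.inr (Subtype.ext h)
  have h2 := Subgroup.relIndex_inf_mul_relIndex (⊥ : Subgroup N) (Subgroup.center N) (E0 H)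
  rw [bot_inf_eq, Subgroup.relIndex_bot_left, Subgroup.relIndex_bot_left, h1,
    ← Subgroup.relIndex_sup_right (H := E0 H) (K := Subgroup.center N), sup_eq H h4, Subgroup.relIndex_top_right] at h2
  have h3 := Subgroup.card_mul_index (Subgroup.center N)
  rw [H.card] at h3
  have h5 : 0 < Nat.card (Subgroup.center N) := Nat.card_pos
  rw [← h2, Nat.eq_of_mul_eq_mul_left h5 h3]

theorem comm_of_E0 (H : Sym 2 a N V) (h4 : ¬ 4 ∣ Nat.card (Subgroup.center N)) {x : N}
    (hx : ∀ y ∈ E0 H, y * x = x * y) : x ∈ Subgroup.center N := by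
  have h1 : E0 H ⊔ Subgroup.center N ≤ Subgroup.centralizer {x} := by
    rw [sup_le_iff]
    constructor
    · intro y hy
      rw [Subgroup.mem_centralizer_singleton_iff]
      exact hx y hy
    · intro y hy
      rw [Subgroup.mem_centralizer_singleton_iff]
      exact (Subgroup.mem_center_iff.1 hy x).symm
  rw [sup_eq H h4] at h1
  rw [Subgroup.mem_center_iff]
  intro y
  exact Subgroup.mem_centralizer_singleton_iff.1 (h1 (Subgroup.mem_top y))

end abs

variable {p : ℕ} [Fact p.Prime] {V : Type u} [AddCommGroup V] [Module (ZMod p) V] [Finite V]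

/-- **E3**: the Sylow 2-subgroup when `|A|` is not divisible by 4 -/
theorem two_part {G : Subgroup (V ≃ₗ[ZMod p] V)} {A N : Subgroup G} (_hA : A.Normal) (hN : N.Normal) {a : ℕ}
    (H : Sym 2 a N V) (hc : (Subgroup.center N).map N.subtype = A) (h4 : ¬ 4 ∣ Nat.card A) :
    ∃ E : Subgroup G, E.Normal ∧ E ≤ N ∧ Sym 2 a E V ∧ Nat.card (Subgroup.center E) = 2 := by
  have hfin := H.fin
  have hz : Nat.card (Subgroup.center N) = Nat.card A := by
    rw [← hc]
    exact Nat.card_congr ((Subgroup.center N).equivMapOfInjective N.subtype N.subtype_injective).toEquiv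
  rw [← hz] at h4
  have hle : (E0 H).map N.subtype ≤ N := Subgroup.map_subtype_le _
  have hmem : ∀ x : G, x ∈ (E0 H).map N.subtype ↔ x ∈ N ∧ x ^ 4 = 1 := by
    intro x
    constructor
    · rintro ⟨y, hy, rfl⟩
      exact ⟨y.2, congrArg Subtype.val (show y ^ 4 = 1 from hy)⟩
    · rintro ⟨h1, h2⟩
      exact ⟨⟨x, h1⟩, Subtype.ext h2, rfl⟩
  have hcardE : Nat.card ((E0 H).map N.subtype) = 2 * 2 ^ (2 * a) := by
    rw [← card_E0 H h4]
    exact (Nat.card_congr ((E0 H).equivMapOfInjective N.subtype N.subtype_injective).toEquiv).symm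
  -- the centre
  have hcen : ∀ x : (E0 H).map N.subtype, x ∈ Subgroup.center ((E0 H).map N.subtype) ↔
      (⟨x.1, hle x.2⟩ : N) ∈ Subgroup.center N := by
    intro x
    constructor
    · intro h
      apply comm_of_E0 H h4
      intro y hy
      have h1 := Subgroup.mem_center_iff.1 h ⟨y.1, ⟨y, hy, rfl⟩⟩
      exact Subtype.ext (congrArg (fun z : (E0 H).map N.subtype => (z : G)) h1)
    · intro h
      rw [Subgroup.mem_center_iff]
      intro y
      have h1 := Subgroup.mem_center_iff.1 h ⟨y.1, hle y.2⟩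
      exact Subtype.ext (congrArg (fun z : N => (z : G)) h1)
  obtain ⟨c, hcc, hc1, hc4, huniq⟩ := center_four H h4
  have hcard2 : Nat.card (Subgroup.center ((E0 H).map N.subtype)) = 2 := by
    rw [Nat.card_eq_two_iff]
    have hcE : (c : G) ∈ (E0 H).map N.subtype := ⟨c, hc4, rfl⟩
    refine ⟨1, ⟨⟨c, hcE⟩, (hcen _).2 hcc⟩, ?_, ?_⟩
    · intro h
      apply hc1
      have h1 := congrArg (fun z : Subgroup.center ((E0 H).map N.subtype) => ((z : (E0 H).map N.subtype) : G)) h
      exact Subtype.ext h1.symm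
    · ext ⟨w, hw⟩
      simp only [Set.mem_insert_iff, Set.mem_singleton_iff, Set.mem_univ, iff_true]
      rcases huniq _ ((hcen w).1 hw) (Subtype.ext ((hmem w.1).1 w.2).2) with h | h
      · left
        apply Subtype.ext
        apply Subtype.ext
        exact congrArg (fun z : N => (z : G)) h
      · right
        apply Subtype.ext
        apply Subtype.ext
        exact congrArg (fun z : N => (z : G)) h
  refine ⟨(E0 H).map N.subtype, ⟨?_⟩, hle, ?_, hcard2⟩
  · intro x hx g
    rw [hmem] at hx ⊢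
    refine ⟨hN.conj_mem x hx.1 g, ?_⟩
    rw [conj_pow, hx.2, mul_one, mul_inv_cancel]
  · refine ⟨inferInstance, H.finV, H.hs, H.ha, H.nt, H.cop, ?_, ?_, ?_, ?_, ?_⟩
    · have : Fact (Nat.Prime 2) := ⟨Nat.prime_two⟩
      exact isCyclic_of_prime_card hcard2
    · intro x hx hx1 v hv
      exact H.semi ⟨x.1, hle x.2⟩ ((hcen x).1 hx) (fun h => hx1 (Subtype.ext (congrArg (fun z : N => (z : G)) h))) v hv
    · intro x y
      rw [hcen]
      exact H.comm ⟨x.1, hle x.2⟩ ⟨y.1, hle y.2⟩
    · intro x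
      rw [hcen]
      exact H.exp ⟨x.1, hle x.2⟩
    · rw [hcardE, hcard2]

end Cfsg.Agent.H583.HT
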