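import Cfsg.Agent.H662.HT.Two
import Cfsg.Agent.H528.HT.Semi

/-!
# The frame for `ETwo` (S3577, S3540; helper583 for helper662)

`A` maximal abelian normal in `G`, `F / A` of order four.

* `sq_one`, `anti`, `cover` : the structure of `F`;
* `exists_rho` : the action of `G` on the three nontrivial cosets of `A` in `F`;
* `mem_F` : the kernel on `F / A` and on `A` is `F`;
* `card_le_four`, `card_coset_le` : counting.
-/

set_option autoImplicit false
set_option linter.unusedSectionVars false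

open scoped commutatorElement
open Finset

namespace Cfsg.Agent.H583.HT

open Cfsg.Agent.H828.HT Cfsg.Agent.H662.HT

universe u

variable {p : ℕ} [Fact p.Prime] {V : Type u} [AddCommGroup V] [Module (ZMod p) V] [Finite V]

/-- the scalar `-1` -/
def ng (p : ℕ) (V : Type u) [AddCommGroup V] [Module (ZMod p) V] : V ≃ₗ[ZMod p] V := LinearEquiv.neg (ZMod p)

theorem ng_apply (v : V) : ng p V v = -v := rfl

theorem ng_mul_ng : ng p V * ng p V = 1 := by
  ext v
  change -(-v) = v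
  rw [neg_neg]

theorem ng_comm (g : V ≃ₗ[ZMod p] V) : ng p V * g = g * ng p V := by
  ext v
  change -(g v) = g (-v)
  rw [map_neg]

theorem finite_gl : Finite (V ≃ₗ[ZMod p] V) :=
  Finite.of_injective (fun g => (g : V → V)) DFunLike.coe_injective

/-- in a group of order four and exponent two, two different nontrivial elements give everything -/
theorem four_cover {Q : Type*} [Group Q] (h4 : Nat.card Q = 4) (hsq : ∀ q : Q, q * q = 1) {x y : Q} (hx : x ≠ 1)
    (hy : y ≠ 1) (hxy : x ≠ y) (z : Q) : z = 1 ∨ z = x ∨ z = y ∨ z = x * y := by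
  classical
  have hf : Finite Q := Nat.finite_of_card_ne_zero (by omega)
  have := Fintype.ofFinite Q
  have h1 : ({1, x, y, x * y} : Finset Q) = Finset.univ := by
    apply Finset.eq_univ_of_card
    rw [← Nat.card_eq_fintype_card, h4, Finset.card_insert_of_notMem, Finset.card_insert_of_notMem,
      Finset.card_insert_of_notMem, Finset.card_singleton]
    · rw [Finset.mem_singleton]
      intro h
      exact hx (by simpa using h)
    · simp only [Finset.mem_insert, Finset.mem_singleton, not_or]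
      refine ⟨hxy, fun h => hy (by simpa using h)⟩
    · simp only [Finset.mem_insert, Finset.mem_singleton, not_or]
      refine ⟨hx.symm, hy.symm, fun h => hxy ?_⟩
      have h2 : x * (x * y) = x * 1 := by rw [← h]
      rw [← mul_assoc, hsq, one_mul, mul_one] at h2
      exact h2.symm
  have h2 : z ∈ ({1, x, y, x * y} : Finset Q) := by rw [h1]; exact Finset.mem_univ z
  simpa only [Finset.mem_insert, Finset.mem_singleton] using h2

section etwo

variable {G A F : Subgroup (V ≃ₗ[ZMod p] V)}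

theorem sq_one (E : ETwo G A F) {a : V ≃ₗ[ZMod p] V} (ha : a ∈ A) (h2 : a * a = 1) : a = 1 ∨ a = ng p V := by
  by_cases h1 : a = 1
  · exact Or.inl h1
  · right
    ext v
    rw [ng_apply]
    have h3 : a (a v + v) = a v + v := by
      rw [map_add, show a (a v) = v from by rw [← LinearEquiv.mul_apply, h2]; rfl, add_comm]
    have h4 := E.semi a ha h1 _ h3
    exact eq_neg_of_add_eq_zero_left h4

/-- `F / A` -/
abbrev FA (A F : Subgroup (V ≃ₗ[ZMod p] V)) : Type u := F ⧸ A.subgroupOf F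

theorem normal_FA (E : ETwo G A F) : (A.subgroupOf F).Normal :=
  ⟨fun a ha g => E.nA g (E.FG g.2) a ha⟩

theorem card_FA (E : ETwo G A F) : Nat.card (FA A F) = 4 := by
  have := finite_gl (p := p) (V := V)
  have h1 : Nat.card (A.subgroupOf F) = Nat.card A := Nat.card_congr (Subgroup.subgroupOfEquivOfLe E.AF).toEquiv
  have h2 := (A.subgroupOf F).index_mul_card
  rw [h1, E.card] at h2
  have h3 : 0 < Nat.card A := Nat.card_pos
  exact Nat.eq_of_mul_eq_mul_right h3 h2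

theorem cover (E : ETwo G A F) {x y z : V ≃ₗ[ZMod p] V} (hx : x ∈ F) (hy : y ∈ F) (hz : z ∈ F) (hxA : x ∉ A)
    (hyA : y ∉ A) (hxy : x⁻¹ * y ∉ A) : z ∈ A ∨ x⁻¹ * z ∈ A ∨ y⁻¹ * z ∈ A ∨ (x * y)⁻¹ * z ∈ A := by
  have := normal_FA E
  have hsq : ∀ q : FA A F, q * q = 1 := by
    intro q
    induction q using QuotientGroup.induction_on with
    | H f => exact (QuotientGroup.eq_one_iff _).2 (E.sq f f.2)
  have h1 : ∀ f : F, (QuotientGroup.mk f : FA A F) = 1 ↔ (f : V ≃ₗ[ZMod p] V) ∈ A := fun f =>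
    QuotientGroup.eq_one_iff f
  have h2 : ∀ f f' : F, (QuotientGroup.mk f : FA A F) = QuotientGroup.mk f' ↔
      (f : V ≃ₗ[ZMod p] V)⁻¹ * f' ∈ A := fun f f' => QuotientGroup.eq
  have h3 := four_cover (card_FA E) hsq (x := QuotientGroup.mk ⟨x, hx⟩) (y := QuotientGroup.mk ⟨y, hy⟩)
    (fun h => hxA ((h1 _).1 h)) (fun h => hyA ((h1 _).1 h)) (fun h => hxy ((h2 _ _).1 h)) (QuotientGroup.mk ⟨z, hz⟩)
  rcases h3 with h3 | h3 | h3 | h3
  · exact Or.inl ((h1 _).1 h3)
  · exact Or.inr (Or.inl ((h2 _ _).1 h3.symm))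
  · exact Or.inr (Or.inr (Or.inl ((h2 _ _).1 h3.symm)))
  · rw [← QuotientGroup.mk_mul] at h3
    exact Or.inr (Or.inr (Or.inr ((h2 _ _).1 h3.symm)))

theorem exists_pair (E : ETwo G A F) : ∃ x ∈ F, ∃ y ∈ F, x ∉ A ∧ y ∉ A ∧ x⁻¹ * y ∉ A := by
  have := normal_FA E
  have h4 := card_FA E
  have hf : Finite (FA A F) := Nat.finite_of_card_ne_zero (by omega)
  have := Fintype.ofFinite (FA A F)
  rw [Nat.card_eq_fintype_card] at h4
  classical
  obtain ⟨q, hq⟩ : ∃ q : FA A F, q ≠ 1 := by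
    by_contra hcon
    push Not at hcon
    have : Fintype.card (FA A F) ≤ 1 := Fintype.card_le_one_iff.2 fun a b => by rw [hcon a, hcon b]
    omega
  obtain ⟨q', hq', hqq⟩ : ∃ q' : FA A F, q' ≠ 1 ∧ q' ≠ q := by
    by_contra hcon
    push Not at hcon
    have h5 : (Finset.univ : Finset (FA A F)) ⊆ {1, q} := by
      intro z _
      rw [Finset.mem_insert, Finset.mem_singleton]
      by_cases hz : z = 1
      · exact Or.inl hz
      · exact Or.inr (hcon z hz)
    have h6 := Finset.card_le_card h5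
    have h7 : ({1, q} : Finset (FA A F)).card ≤ 2 := Finset.card_le_two
    rw [Finset.card_univ] at h6
    omega
  induction q using QuotientGroup.induction_on with | H x => ?_
  induction q' using QuotientGroup.induction_on with | H y => ?_
  refine ⟨x, x.2, y, y.2, fun h => hq ((QuotientGroup.eq_one_iff x).2 h), fun h => hq' ((QuotientGroup.eq_one_iff y).2 h),
    fun h => hqq ((QuotientGroup.eq (s := A.subgroupOf F) (a := x) (b := y)).2 h).symm⟩

/-- elements of different nontrivial cosets anticommute -/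
theorem anti (E : ETwo G A F) {x y : V ≃ₗ[ZMod p] V} (hx : x ∈ F) (hy : y ∈ F) (hxA : x ∉ A)
    (hyA : y ∉ A) (hxy : x⁻¹ * y ∉ A) : x * y = ng p V * (y * x) := by
  obtain ⟨c, hc⟩ : ∃ c, c = x * y * x⁻¹ * y⁻¹ := ⟨_, rfl⟩
  have hcA : c ∈ A := by rw [hc]; exact E.comm x hx y hy
  have e1 : x * y = c * (y * x) := by rw [hc]; group
  have e2 : c * c = 1 := by
    have h1 : x * x * y = y * (x * x) := E.cenA _ (E.sq x hx) y hy
    have h2 : c * x = x * c := E.cenA c hcA x hx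
    have h3 : x * x * y = c * c * (y * (x * x)) := by
      calc x * x * y = x * (x * y) := by group
        _ = x * (c * (y * x)) := by rw [e1]
        _ = (x * c) * (y * x) := by group
        _ = (c * x) * (y * x) := by rw [h2]
        _ = c * (x * y) * x := by group
        _ = c * (c * (y * x)) * x := by rw [e1]
        _ = c * c * (y * (x * x)) := by group
    rw [h1] at h3
    exact (mul_eq_right.1 h3.symm)
  rcases sq_one E hcA e2 with h | h
  · exfalso
    rw [h, one_mul] at e1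
    apply hxA
    apply E.cen x (E.FG hx)
    intro z hz
    rcases cover E hx hy hz hxA hyA hxy with h1 | h1 | h1 | h1
    · exact (E.cenA z h1 x hx).symm
    · have h2 := E.cenA _ h1 x hx
      calc x * z = x * (x * (x⁻¹ * z)) := by group
        _ = x * ((x⁻¹ * z) * x) := by rw [h2]
        _ = z * x := by group
    · have h2 := E.cenA _ h1 x hx
      have h3 : z = y * (y⁻¹ * z) := by group
      calc x * z = x * (y * (y⁻¹ * z)) := by rw [← h3]
        _ = (x * y) * (y⁻¹ * z) := by group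
        _ = (y * x) * (y⁻¹ * z) := by rw [e1]
        _ = y * (x * (y⁻¹ * z)) := by group
        _ = y * ((y⁻¹ * z) * x) := by rw [h2]
        _ = z * x := by group
    · have h2 := E.cenA _ h1 x hx
      have h3 : z = (x * y) * ((x * y)⁻¹ * z) := by group
      calc x * z = x * ((x * y) * ((x * y)⁻¹ * z)) := by rw [← h3]
        _ = x * (x * y) * ((x * y)⁻¹ * z) := by group
        _ = x * (y * x) * ((x * y)⁻¹ * z) := by rw [e1]
        _ = (x * y) * (x * ((x * y)⁻¹ * z)) := by group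
        _ = (x * y) * (((x * y)⁻¹ * z) * x) := by rw [h2]
        _ = z * x := by group
  · rw [h] at e1
    exact e1

theorem ng_mem (E : ETwo G A F) : ng p V ∈ A := by
  obtain ⟨x, hx, y, hy, hxA, hyA, hxy⟩ := exists_pair E
  have h1 := anti E hx hy hxA hyA hxy
  have h2 := E.comm x hx y hy
  rw [h1] at h2
  have h3 : ng p V * (y * x) * x⁻¹ * y⁻¹ = ng p V := by group
  rwa [h3] at h2

/-- the elements of `F` commute with or invert ... : **the kernel of `G` on `F / A` and `A` is `F`** -/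
theorem mem_F (E : ETwo G A F) {g : V ≃ₗ[ZMod p] V} (hg : g ∈ G) (hgA : ∀ a ∈ A, g * a = a * g)
    (hgF : ∀ x ∈ F, g * x * g⁻¹ * x⁻¹ ∈ A) : g ∈ F := by
  obtain ⟨x, hx, y, hy, hxA, hyA, hxy⟩ := exists_pair E
  -- the signs
  have hsign : ∀ x ∈ F, g * x * g⁻¹ = x ∨ g * x * g⁻¹ = ng p V * x := by
    intro x hx
    obtain ⟨l, hl⟩ : ∃ l, l = g * x * g⁻¹ * x⁻¹ := ⟨_, rfl⟩
    have hlA : l ∈ A := by rw [hl]; exact hgF x hx
    have e1 : g * x * g⁻¹ = l * x := by rw [hl]; group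
    have e2 : l * l = 1 := by
      have h1 : g * (x * x) = (x * x) * g := hgA _ (E.sq x hx)
      have h2 : l * x = x * l := E.cenA l hlA x hx
      have h3 : (l * x) * (l * x) = x * x := by
        rw [← e1]
        calc g * x * g⁻¹ * (g * x * g⁻¹) = g * (x * x) * g⁻¹ := by group
          _ = x * x := by rw [h1]; group
      have h4 : (l * x) * (l * x) = l * l * (x * x) := by
        calc (l * x) * (l * x) = l * (x * l) * x := by group
          _ = l * (l * x) * x := by rw [h2]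
          _ = l * l * (x * x) := by group
      rw [h4] at h3
      exact mul_eq_right.1 h3
    rcases sq_one E hlA e2 with h | h
    · left
      rw [e1, h, one_mul]
    · right
      rw [e1, h]
  have hxyn : x * y = ng p V * (y * x) := anti E hx hy hxA hyA hxy
  have hyxn : y * x = ng p V * (x * y) := by
    rw [hxyn, ← mul_assoc, ng_mul_ng, one_mul]
  -- it suffices to find `n ∈ F` with `n * g` centralising `x`, `y`
  have key : ∀ n ∈ F, (n * g) * x = x * (n * g) → (n * g) * y = y * (n * g) → g ∈ F := by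
    intro n hn h1 h2
    have h3 : n * g ∈ A := by
      apply E.cen _ (mul_mem (E.FG hn) hg)
      intro z hz
      have hA : ∀ a ∈ A, (n * g) * a = a * (n * g) := by
        intro a ha
        rw [mul_assoc, hgA a ha, ← mul_assoc, ← E.cenA a ha n hn, mul_assoc]
      rcases cover E hx hy hz hxA hyA hxy with h4 | h4 | h4 | h4
      · exact hA z h4
      · have h3 : z = x * (x⁻¹ * z) := by group
        calc n * g * z = (n * g * x) * (x⁻¹ * z) := by group
          _ = x * ((n * g) * (x⁻¹ * z)) := by rw [h1]; group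
          _ = x * ((x⁻¹ * z) * (n * g)) := by rw [hA _ h4]
          _ = z * (n * g) := by group
      · calc n * g * z = (n * g * y) * (y⁻¹ * z) := by group
          _ = y * ((n * g) * (y⁻¹ * z)) := by rw [h2]; group
          _ = y * ((y⁻¹ * z) * (n * g)) := by rw [hA _ h4]
          _ = z * (n * g) := by group
      · calc n * g * z = (n * g * x) * y * ((x * y)⁻¹ * z) := by group
          _ = x * ((n * g) * y) * ((x * y)⁻¹ * z) := by rw [h1]; group
          _ = x * y * ((n * g) * ((x * y)⁻¹ * z)) := by rw [h2]; group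
          _ = x * y * (((x * y)⁻¹ * z) * (n * g)) := by rw [hA _ h4]
          _ = z * (n * g) := by group
    have h4 : g = n⁻¹ * (n * g) := by group
    rw [h4]
    exact mul_mem (inv_mem hn) (E.AF h3)
  have hgx : g * x = (g * x * g⁻¹) * g := by group
  have hgy : g * y = (g * y * g⁻¹) * g := by group
  rcases hsign x hx with h1 | h1 <;> rcases hsign y hy with h2 | h2
  · apply key 1 (one_mem _)
    · rw [one_mul, hgx, h1]
    · rw [one_mul, hgy, h2]
  · apply key x hx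
    · rw [mul_assoc, hgx, h1]
    · rw [mul_assoc, hgy, h2]
      calc x * (ng p V * y * g) = (x * ng p V) * y * g := by group
        _ = ng p V * (x * y) * g := by rw [← ng_comm]; group
        _ = y * x * g := by rw [← hyxn]
        _ = y * (x * g) := by group
  · apply key y hy
    · rw [mul_assoc, hgx, h1]
      calc y * (ng p V * x * g) = (y * ng p V) * x * g := by group
        _ = ng p V * (y * x) * g := by rw [← ng_comm]; group
        _ = x * y * g := by rw [← hxyn]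
        _ = x * (y * g) := by group
    · rw [mul_assoc, hgy, h2]
  · apply key (x * y) (mul_mem hx hy)
    · rw [mul_assoc, hgx, h1]
      calc x * y * (ng p V * x * g) = x * ((y * ng p V) * x) * g := by group
        _ = x * (ng p V * (y * x)) * g := by rw [← ng_comm]; group
        _ = x * (x * y) * g := by rw [← hxyn]
        _ = x * (x * y * g) := by group
    · rw [mul_assoc, hgy, h2]
      calc x * y * (ng p V * y * g) = (x * y * ng p V) * y * g := by group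
        _ = (ng p V * (x * y)) * y * g := by rw [← ng_comm]
        _ = (y * x) * y * g := by rw [← hyxn]
        _ = y * (x * y * g) := by group

/-- **the action on the three nontrivial cosets of `A` in `F`**, `n i` representatives -/
structure Rho (G A F : Subgroup (V ≃ₗ[ZMod p] V)) (ρ : G →* Equiv.Perm (Fin 3)) (n : Fin 3 → (V ≃ₗ[ZMod p] V)) :
    Prop where
  memF : ∀ i, n i ∈ F
  notA : ∀ i, n i ∉ A
  inj : ∀ i j, (n i)⁻¹ * n j ∈ A → i = j
  cov : ∀ z ∈ F, z ∈ A ∨ ∃ i, (n i)⁻¹ * z ∈ A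
  act : ∀ (g : G) (i j : Fin 3), ρ g i = j ↔ (n j)⁻¹ * ((g : V ≃ₗ[ZMod p] V) * n i * (g : V ≃ₗ[ZMod p] V)⁻¹) ∈ A
  triv : ∀ g : G, ρ g = 1 ↔ ∀ x ∈ F, (g : V ≃ₗ[ZMod p] V) * x * (g : V ≃ₗ[ZMod p] V)⁻¹ * x⁻¹ ∈ A
  fpf : ∀ i, ∃ g : G, ρ g i ≠ i

theorem exists_rho (E : ETwo G A F) : ∃ (ρ : G →* Equiv.Perm (Fin 3)) (n : Fin 3 → (V ≃ₗ[ZMod p] V)),
    Rho G A F ρ n := by
  obtain ⟨x, hx, y, hy, hxA, hyA, hxy⟩ := exists_pair E
  obtain ⟨n, hn0, hn1, hn2⟩ : ∃ n : Fin 3 → (V ≃ₗ[ZMod p] V), n 0 = x ∧ n 1 = y ∧ n 2 = x * y :=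
    ⟨![x, y, x * y], rfl, rfl, rfl⟩
  have nA' : ∀ g ∈ G, ∀ a ∈ A, g * a * g⁻¹ ∈ A := E.nA
  have memF : ∀ i, n i ∈ F := by
    intro i
    fin_cases i
    · change n 0 ∈ F; rw [hn0]; exact hx
    · change n 1 ∈ F; rw [hn1]; exact hy
    · change n 2 ∈ F; rw [hn2]; exact mul_mem hx hy
  -- `x * y` is not in `A`, nor in `x A`, `y A`
  have hxyA : x * y ∉ A := by
    intro h
    apply hxy
    have h1 : x⁻¹ * y = (x * x)⁻¹ * (x * y) := by group
    rw [h1]
    exact mul_mem (inv_mem (E.sq x hx)) h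
  have notA : ∀ i, n i ∉ A := by
    intro i
    fin_cases i
    · change n 0 ∉ A; rw [hn0]; exact hxA
    · change n 1 ∉ A; rw [hn1]; exact hyA
    · change n 2 ∉ A; rw [hn2]; exact hxyA
  have hyx : y⁻¹ * (x * y) ∉ A := by
    intro h
    apply hxA
    have h1 : x = y * (y⁻¹ * (x * y)) * y⁻¹ := by group
    rw [h1]
    exact E.nA y (E.FG hy) _ h
  have inj : ∀ i j, (n i)⁻¹ * n j ∈ A → i = j := by
    have hlt : ∀ i j, i < j → (n i)⁻¹ * n j ∉ A := by
      intro i j hij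
      fin_cases i <;> fin_cases j
      · exact absurd hij (lt_irrefl _)
      · change (n 0)⁻¹ * n 1 ∉ A; rw [hn0, hn1]; exact hxy
      · change (n 0)⁻¹ * n 2 ∉ A; rw [hn0, hn2]
        have h1 : x⁻¹ * (x * y) = y := by group
        rw [h1]; exact hyA
      · exact absurd hij (by decide)
      · exact absurd hij (lt_irrefl _)
      · change (n 1)⁻¹ * n 2 ∉ A; rw [hn1, hn2]; exact hyx
      · exact absurd hij (by decide)
      · exact absurd hij (by decide)
      · exact absurd hij (lt_irrefl _)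
    intro i j h
    rcases lt_trichotomy i j with h1 | h1 | h1
    · exact absurd h (hlt i j h1)
    · exact h1
    · exfalso
      apply hlt j i h1
      have h2 : (n j)⁻¹ * n i = ((n i)⁻¹ * n j)⁻¹ := by group
      rw [h2]
      exact inv_mem h
  have cov : ∀ z ∈ F, z ∈ A ∨ ∃ i, (n i)⁻¹ * z ∈ A := by
    intro z hz
    rcases cover E hx hy hz hxA hyA hxy with h | h | h | h
    · exact Or.inl h
    · exact Or.inr ⟨0, by rw [hn0]; exact h⟩
    · exact Or.inr ⟨1, by rw [hn1]; exact h⟩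
    · exact Or.inr ⟨2, by rw [hn2]; exact h⟩
  have hex : ∀ (g : G) (i : Fin 3), ∃ j, (n j)⁻¹ * ((g : V ≃ₗ[ZMod p] V) * n i * (g : V ≃ₗ[ZMod p] V)⁻¹) ∈ A := by
    intro g i
    rcases cov _ (E.nF g g.2 _ (memF i)) with h | h
    · exfalso
      apply notA i
      have h1 := E.nA _ (inv_mem g.2) _ h
      have h2 : (g : V ≃ₗ[ZMod p] V)⁻¹ * ((g : V ≃ₗ[ZMod p] V) * n i * (g : V ≃ₗ[ZMod p] V)⁻¹) *
        (g : V ≃ₗ[ZMod p] V)⁻¹⁻¹ = n i := by group
      rwa [h2] at h1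
    · exact h
  have huniq : ∀ (z : V ≃ₗ[ZMod p] V) (j k : Fin 3), (n j)⁻¹ * z ∈ A → (n k)⁻¹ * z ∈ A → j = k := by
    intro z j k h1 h2
    apply inj
    have h3 : (n j)⁻¹ * n k = ((n j)⁻¹ * z) * ((n k)⁻¹ * z)⁻¹ := by group
    rw [h3]
    exact mul_mem h1 (inv_mem h2)
  choose f hf using hex
  obtain ⟨ρ₀, hρ₀⟩ : ∃ ρ₀ : G →* Function.End (Fin 3), ∀ g i, ρ₀ g i = f g i := by
    refine ⟨{ toFun := fun g i => f g i, map_one' := ?_, map_mul' := ?_ }, fun _ _ => rfl⟩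
    · funext i
      change f 1 i = i
      apply huniq (n i)
      · have := hf 1 i
        have h1 : ((1 : G) : V ≃ₗ[ZMod p] V) * n i * ((1 : G) : V ≃ₗ[ZMod p] V)⁻¹ = n i := by
          rw [Subgroup.coe_one]; group
        rwa [h1] at this
      · rw [inv_mul_cancel]; exact one_mem _
    · intro g h
      funext i
      change f (g * h) i = f g (f h i)
      apply huniq (((g * h : G) : V ≃ₗ[ZMod p] V) * n i * ((g * h : G) : V ≃ₗ[ZMod p] V)⁻¹) _ _ (hf (g * h) i)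
      have h1 := hf h i
      have h2 := hf g (f h i)
      have h3 : (n (f g (f h i)))⁻¹ * (((g * h : G) : V ≃ₗ[ZMod p] V) * n i * ((g * h : G) : V ≃ₗ[ZMod p] V)⁻¹) =
          ((n (f g (f h i)))⁻¹ * ((g : V ≃ₗ[ZMod p] V) * n (f h i) * (g : V ≃ₗ[ZMod p] V)⁻¹)) *
          ((g : V ≃ₗ[ZMod p] V) * ((n (f h i))⁻¹ * ((h : V ≃ₗ[ZMod p] V) * n i * (h : V ≃ₗ[ZMod p] V)⁻¹)) *
            (g : V ≃ₗ[ZMod p] V)⁻¹) := by
        rw [Subgroup.coe_mul]; group
      rw [h3]
      exact mul_mem h2 (E.nA g g.2 _ h1)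
  have hact : ∀ (g : G) (i j : Fin 3), MonoidHom.toHomPerm ρ₀ g i = j ↔
      (n j)⁻¹ * ((g : V ≃ₗ[ZMod p] V) * n i * (g : V ≃ₗ[ZMod p] V)⁻¹) ∈ A := by
    intro g i j
    have h0 : MonoidHom.toHomPerm ρ₀ g i = f g i := hρ₀ g i
    rw [h0]
    constructor
    · intro h
      rw [← h]
      exact hf g i
    · intro h
      exact huniq _ _ _ (hf g i) h
  refine ⟨MonoidHom.toHomPerm ρ₀, n, memF, notA, inj, cov, hact, ?_, ?_⟩
  · intro g
    constructor
    · intro h x hx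
      have h1 : ∀ i, (n i)⁻¹ * ((g : V ≃ₗ[ZMod p] V) * n i * (g : V ≃ₗ[ZMod p] V)⁻¹) ∈ A := by
        intro i
        rw [← hact, h]
        rfl
      rcases cov x hx with h2 | ⟨i, h2⟩
      · exact mul_mem (E.nA g g.2 x h2) (inv_mem h2)
      · have h3 : (g : V ≃ₗ[ZMod p] V) * x * (g : V ≃ₗ[ZMod p] V)⁻¹ * x⁻¹ =
            n i * (((n i)⁻¹ * ((g : V ≃ₗ[ZMod p] V) * n i * (g : V ≃ₗ[ZMod p] V)⁻¹)) *
              ((g : V ≃ₗ[ZMod p] V) * ((n i)⁻¹ * x) * (g : V ≃ₗ[ZMod p] V)⁻¹) * ((n i)⁻¹ * x)⁻¹) * (n i)⁻¹ := by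
          group
        rw [h3]
        exact E.nA _ (E.FG (memF i)) _ (mul_mem (mul_mem (h1 i) (E.nA g g.2 _ h2)) (inv_mem h2))
    · intro h
      ext1 i
      change MonoidHom.toHomPerm ρ₀ g i = i
      rw [hact]
      have h1 := h (n i) (memF i)
      have h2 := E.nA _ (inv_mem (E.FG (memF i))) _ h1
      have h3 : (n i)⁻¹ * ((g : V ≃ₗ[ZMod p] V) * n i * (g : V ≃ₗ[ZMod p] V)⁻¹ * (n i)⁻¹) * (n i)⁻¹⁻¹ =
        (n i)⁻¹ * ((g : V ≃ₗ[ZMod p] V) * n i * (g : V ≃ₗ[ZMod p] V)⁻¹) := by group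
      rwa [h3] at h2
  · intro i
    by_contra hcon
    push Not at hcon
    apply notA i
    apply E.fpf (n i) (memF i)
    intro g hg
    have h1 := (hact ⟨g, hg⟩ i i).1 (hcon ⟨g, hg⟩)
    have h2 := E.nA _ (E.FG (memF i)) _ h1
    have h3 : n i * ((n i)⁻¹ * (g * n i * g⁻¹)) * (n i)⁻¹ = g * n i * g⁻¹ * (n i)⁻¹ := by group
    rwa [h3] at h2

section count

variable {ρ : G →* Equiv.Perm (Fin 3)} {n : Fin 3 → (V ≃ₗ[ZMod p] V)} {K : Type u} [Field K] [Module K V]
  {χ : A →* Kˣ} {σ : G →* (K ≃+* K)}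

theorem Rho.mem_of_eq (R : Rho G A F ρ n) (E : ETwo G A F) (hK : KS G A K χ σ) {g : G} (h1 : ρ g = 1)
    (h2 : σ g = 1) : (g : V ≃ₗ[ZMod p] V) ∈ F :=
  mem_F E g.2 ((hK.cen g).1 h2) ((R.triv g).1 h1)

theorem Rho.rho_of_mem (R : Rho G A F ρ n) (E : ETwo G A F) {g : G} (h : (g : V ≃ₗ[ZMod p] V) ∈ F) : ρ g = 1 :=
  (R.triv g).2 fun x hx => E.comm _ h x hx

theorem sigma_of_mem (E : ETwo G A F) (hK : KS G A K χ σ) {g : G} (h : (g : V ≃ₗ[ZMod p] V) ∈ F) : σ g = 1 :=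
  (hK.cen g).2 fun a ha => (E.cenA a ha _ h).symm

/-- two elements with the same images differ by an element of `F` -/
theorem Rho.inv_mul_mem (R : Rho G A F ρ n) (E : ETwo G A F) (hK : KS G A K χ σ) {g g' : G} (h1 : ρ g = ρ g')
    (h2 : σ g = σ g') : ((g : V ≃ₗ[ZMod p] V)⁻¹ * (g' : V ≃ₗ[ZMod p] V)) ∈ F := by
  have h3 := R.mem_of_eq E hK (g := g⁻¹ * g') (by rw [map_mul, map_inv, h1, inv_mul_cancel])
    (by rw [map_mul, map_inv, h2, inv_mul_cancel])
  exact h3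

/-- `3` divides the order of `G` -/
theorem e_two_three (E : ETwo G A F) : 3 ∣ Nat.card G := by
  have := finite_gl (p := p) (V := V)
  obtain ⟨ρ, n, R⟩ := exists_rho E
  by_contra h3
  have h1 : Nat.card ρ.range ∣ Nat.card G := Subgroup.card_range_dvd ρ
  have h2 : Nat.card ρ.range ∣ 6 := by
    have := Subgroup.card_subgroup_dvd_card ρ.range
    rwa [Nat.card_perm, Nat.card_fin] at this
  have h4 : Nat.card ρ.range ≠ 3 := fun h => h3 (h ▸ h1)
  have h5 : Nat.card ρ.range ≠ 6 := fun h => h3 ((show 3 ∣ 6 by norm_num).trans (h ▸ h1))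
  have h6 : Nat.card ρ.range = 1 ∨ Nat.card ρ.range = 2 := by
    have h7 := Nat.le_of_dvd (by norm_num) h2
    have h8 : 0 < Nat.card ρ.range := Nat.card_pos
    interval_cases Nat.card ρ.range <;> simp_all
  have hp : IsPGroup 2 ρ.range := by
    rcases h6 with h | h
    · exact IsPGroup.of_card (n := 0) (by rw [h]; rfl)
    · exact IsPGroup.of_card (n := 1) (by rw [h]; rfl)
  have : Fact (Nat.Prime 2) := ⟨Nat.prime_two⟩
  have h7 := hp.card_modEq_card_fixedPoints (Fin 3)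
  rw [Nat.card_fin] at h7
  have h8 : Nat.card (MulAction.fixedPoints ρ.range (Fin 3)) ≠ 0 := by
    intro h
    rw [h] at h7
    exact absurd h7 (by decide)
  obtain ⟨⟨i, hi⟩⟩ : Nonempty (MulAction.fixedPoints ρ.range (Fin 3)) := (Nat.card_ne_zero.1 h8).1
  obtain ⟨g, hg⟩ := R.fpf i
  exact hg (hi ⟨ρ g, g, rfl⟩)

/-- a general counting lemma -/
theorem card_le_mul_of {α β : Type*} [Finite α] [DecidableEq β] {S : α → Prop} (f : α → β) (t : Finset β)
    (hf : ∀ a, S a → f a ∈ t) (B : ℕ) (hB : ∀ b ∈ t, Nat.card {a // S a ∧ f a = b} ≤ B) :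
    Nat.card {a // S a} ≤ B * t.card := by
  classical
  have := Fintype.ofFinite α
  have h1 := Finset.card_le_mul_card_image_of_maps_to (f := f) (s := Finset.univ.filter S) (t := t)
    (fun a ha => hf a (Finset.mem_filter.1 ha).2) B (fun b hb => by
      have h2 := hB b hb
      rw [Nat.card_eq_fintype_card, Fintype.card_subtype] at h2
      rw [Finset.filter_filter]
      exact h2)
  rw [Nat.card_eq_fintype_card, Fintype.card_subtype]
  exact h1

/-- a set inside one coset of `F` : at most four times the maximum over the cosets of `A` -/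
theorem Rho.card_le_four (R : Rho G A F ρ n) (E : ETwo G A F) {S : G → Prop} (y₀ : G)
    (hS : ∀ y, S y → (y₀ : V ≃ₗ[ZMod p] V)⁻¹ * (y : V ≃ₗ[ZMod p] V) ∈ F) (B : ℕ)
    (hB : ∀ y₁, S y₁ → Nat.card {y // S y ∧ (y₁ : V ≃ₗ[ZMod p] V)⁻¹ * (y : V ≃ₗ[ZMod p] V) ∈ A} ≤ B) :
    Nat.card {y // S y} ≤ B * 4 := by
  classical
  have := finite_gl (p := p) (V := V)
  let m : Fin 3 → G := fun i => ⟨n i, E.FG (R.memF i)⟩
  let f : G → G ⧸ A.subgroupOf G := fun y => QuotientGroup.mk y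
  let t : Finset (G ⧸ A.subgroupOf G) := {f y₀, f (y₀ * m 0), f (y₀ * m 1), f (y₀ * m 2)}
  have ht : t.card ≤ 4 := Finset.card_le_four
  have hmk : ∀ y y' : G, f y = f y' ↔ (y : V ≃ₗ[ZMod p] V)⁻¹ * (y' : V ≃ₗ[ZMod p] V) ∈ A := by
    intro y y'
    exact QuotientGroup.eq (s := A.subgroupOf G) (a := y) (b := y')
  have h1 := card_le_mul_of (S := S) f t (fun y hy => by
    rcases R.cov _ (hS y hy) with h | ⟨i, h⟩
    · have e : f y₀ = f y := (hmk _ _).2 h
      rw [← e]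
      exact Finset.mem_insert_self _ _
    · have e : f (y₀ * m i) = f y := by
        rw [hmk]
        have h2 : ((y₀ * m i : G) : V ≃ₗ[ZMod p] V)⁻¹ * (y : V ≃ₗ[ZMod p] V) =
            (n i)⁻¹ * ((y₀ : V ≃ₗ[ZMod p] V)⁻¹ * (y : V ≃ₗ[ZMod p] V)) := by
          rw [Subgroup.coe_mul, mul_inv_rev, mul_assoc]
        rw [h2]
        exact h
      rw [← e]
      fin_cases i <;> simp [t]) B (fun b _ => by
    by_cases hne : ∃ y₁, S y₁ ∧ f y₁ = b
    · obtain ⟨y₁, h3, h4⟩ := hne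
      refine le_trans (Nat.card_le_card_of_injective
        (fun y : {y // S y ∧ f y = b} => (⟨y.1, y.2.1, (hmk _ _).1 (h4.trans y.2.2.symm)⟩ :
          {y // S y ∧ (y₁ : V ≃ₗ[ZMod p] V)⁻¹ * (y : V ≃ₗ[ZMod p] V) ∈ A})) ?_) (hB y₁ h3)
      intro a b h
      have h5 : a.1 = b.1 := congrArg (fun z : {y // S y ∧ (y₁ : V ≃ₗ[ZMod p] V)⁻¹ * (y : V ≃ₗ[ZMod p] V) ∈ A} => z.1) h
      exact Subtype.ext h5
    · have : IsEmpty {y // S y ∧ f y = b} := ⟨fun y => hne ⟨y.1, y.2⟩⟩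
      rw [Nat.card_of_isEmpty]
      exact Nat.zero_le _)
  exact h1.trans (Nat.mul_le_mul_left B ht)

/-- one coset of `A`, linear elements -/
theorem coset_lin (E : ETwo G A F) (hK : KS G A K χ σ) {r : ℕ} (hr : 0 < r) {y₁ : G} (h1 : y₁ ^ r = 1)
    (h2 : σ y₁ = 1) : Nat.card {y : G // y ^ r = 1 ∧ (y₁ : V ≃ₗ[ZMod p] V)⁻¹ * (y : V ≃ₗ[ZMod p] V) ∈ A} ≤ r := by
  classical
  have := finite_gl (p := p) (V := V)
  have := E.cyc
  have := Fintype.ofFinite A
  have h3 := IsCyclic.card_pow_eq_one_le (α := A) hr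
  have h4 : Nat.card {a : A // a ^ r = 1} ≤ r := by
    rw [Nat.card_eq_fintype_card, Fintype.card_subtype]
    exact h3
  refine le_trans (Nat.card_le_card_of_injective
    (fun y : {y : G // y ^ r = 1 ∧ (y₁ : V ≃ₗ[ZMod p] V)⁻¹ * (y : V ≃ₗ[ZMod p] V) ∈ A} =>
      (⟨⟨(y₁ : V ≃ₗ[ZMod p] V)⁻¹ * (y.1 : V ≃ₗ[ZMod p] V), y.2.2⟩, ?_⟩ : {a : A // a ^ r = 1})) ?_) h4
  · apply Subtype.ext
    rw [Subgroup.coe_pow, Subgroup.coe_one]
    have hc : Commute (y₁ : V ≃ₗ[ZMod p] V)⁻¹ (y.1 : V ≃ₗ[ZMod p] V) := by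
      have h5 := (hK.cen y₁).1 h2 _ y.2.2
      have h6 : Commute (y₁ : V ≃ₗ[ZMod p] V) (y.1 : V ≃ₗ[ZMod p] V) := by
        have h7 : (y.1 : V ≃ₗ[ZMod p] V) = y₁ * ((y₁ : V ≃ₗ[ZMod p] V)⁻¹ * (y.1 : V ≃ₗ[ZMod p] V)) := by group
        rw [h7]
        exact (Commute.refl _).mul_right h5
      exact h6.inv_left
    have h5 : (y₁ : V ≃ₗ[ZMod p] V) ^ r = 1 := congrArg Subtype.val h1
    have h6 : (y.1 : V ≃ₗ[ZMod p] V) ^ r = 1 := congrArg Subtype.val y.2.1
    rw [hc.mul_pow, inv_pow, h5, h6, inv_one, one_mul]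
  · intro a b h
    have h5 := congrArg (fun z : {a : A // a ^ r = 1} => ((z.1 : A) : V ≃ₗ[ZMod p] V)) h
    have h6 : (a.1 : V ≃ₗ[ZMod p] V) = b.1 := mul_left_cancel h5
    exact Subtype.ext (Subtype.ext h6)

/-- one coset of `A`, semilinear elements -/
theorem coset_semi [Nontrivial V] (E : ETwo G A F) (hK : KS G A K χ σ) {r : ℕ} (hr : r.Prime) {y₁ : G}
    (h1 : y₁ ^ r = 1) (h2 : σ y₁ ≠ 1) : ∃ q₀ : ℕ, 2 ≤ q₀ ∧ Nat.card K = q₀ ^ r ∧
      (q₀ - 1) * Nat.card {y : G // y ^ r = 1 ∧ (y₁ : V ≃ₗ[ZMod p] V)⁻¹ * (y : V ≃ₗ[ZMod p] V) ∈ A} ≤ q₀ ^ r - 1 := by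
  classical
  have := finite_gl (p := p) (V := V)
  have := hK.fin
  have hit : ∀ (g : V ≃ₗ[ZMod p] V) (k : ℕ) (v : V), (fun w : V => g w)^[k] v = (g ^ k) v := by
    intro g k v
    induction k with
    | zero => rfl
    | succ k ih =>
      rw [Function.iterate_succ', Function.comp_apply, ih, pow_succ']
      rfl
  have h1' : (y₁ : V ≃ₗ[ZMod p] V) ^ r = 1 := congrArg Subtype.val h1
  obtain ⟨q₀, hq1, hq2, hq3⟩ := H528.HT.card_norm_semi (K := K) (W := V) (σ y₁) h2 hr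
    (y₁ : V ≃ₗ[ZMod p] V).toAddEquiv (fun k w => hK.semi y₁ k w) (fun w => by
      have := hit (y₁ : V ≃ₗ[ZMod p] V) r w
      rw [h1'] at this
      exact this)
  refine ⟨q₀, hq1, hq2, le_trans (Nat.mul_le_mul_left _ ?_) hq3⟩
  have hkf : Finite Kˣ := inferInstance
  -- `y = a' * y₁`
  have hmem : ∀ y : {y : G // y ^ r = 1 ∧ (y₁ : V ≃ₗ[ZMod p] V)⁻¹ * (y : V ≃ₗ[ZMod p] V) ∈ A},
      (y.1 : V ≃ₗ[ZMod p] V) * (y₁ : V ≃ₗ[ZMod p] V)⁻¹ ∈ A := by
    intro y
    have h3 := E.nA y₁ y₁.2 _ y.2.2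
    have h4 : (y₁ : V ≃ₗ[ZMod p] V) * ((y₁ : V ≃ₗ[ZMod p] V)⁻¹ * (y.1 : V ≃ₗ[ZMod p] V)) *
      (y₁ : V ≃ₗ[ZMod p] V)⁻¹ = (y.1 : V ≃ₗ[ZMod p] V) * (y₁ : V ≃ₗ[ZMod p] V)⁻¹ := by group
    rwa [h4] at h3
  refine Nat.card_le_card_of_injective
    (fun y => ⟨χ ⟨(y.1 : V ≃ₗ[ZMod p] V) * (y₁ : V ≃ₗ[ZMod p] V)⁻¹, hmem y⟩, ?_⟩) ?_
  · intro w
    have h3 : (fun w : V => ((χ ⟨(y.1 : V ≃ₗ[ZMod p] V) * (y₁ : V ≃ₗ[ZMod p] V)⁻¹, hmem y⟩ : Kˣ) : K) •
        (y₁ : V ≃ₗ[ZMod p] V).toAddEquiv w) = fun w : V => (y.1 : V ≃ₗ[ZMod p] V) w := by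
      funext w
      have h4 := hK.act ⟨(y.1 : V ≃ₗ[ZMod p] V) * (y₁ : V ≃ₗ[ZMod p] V)⁻¹, hmem y⟩ ((y₁ : V ≃ₗ[ZMod p] V) w)
      have h5 : ((y.1 : V ≃ₗ[ZMod p] V) * (y₁ : V ≃ₗ[ZMod p] V)⁻¹) ((y₁ : V ≃ₗ[ZMod p] V) w) =
          (y.1 : V ≃ₗ[ZMod p] V) w := by
        rw [← LinearEquiv.mul_apply, inv_mul_cancel_right]
      exact h4.symm.trans h5
    have h6 : (y.1 : V ≃ₗ[ZMod p] V) ^ r = 1 := congrArg Subtype.val y.2.1
    rw [h3, hit, h6]
    rfl
  · intro a b h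
    have h5 := hK.inj (congrArg Subtype.val h)
    have h6 := congrArg Subtype.val h5
    have h7 : (a.1 : V ≃ₗ[ZMod p] V) = b.1 := mul_right_cancel h6
    exact Subtype.ext (Subtype.ext h7)

end count

end etwo

end Cfsg.Agent.H583.HT
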